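import Cfsg.Agent.Theta.Transform

/-!
The theta series as a modular form of weight twelve, and the three smallest shells without roots.
-/

namespace Cfsg.Lib.Theta

open Matrix Complex UpperHalfPlane ModularForm Filter Function
open scoped Real MatrixGroups Manifold

local notation "𝕢" => Function.Periodic.qParam

variable (B : Matrix (Fin 24) (Fin 24) ℤ)

/-- Half the norm. -/
def half (x : Fin 24 → ℤ) : ℕ := ((x ⬝ᵥ (B *ᵥ x)) / 2).toNat

variable (hs : B.IsSymm) (hpos : ∀ x : Fin 24 → ℤ, x ≠ 0 → 0 < x ⬝ᵥ (B *ᵥ x))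
  (heven : ∀ x : Fin 24 → ℤ, (2 : ℤ) ∣ x ⬝ᵥ (B *ᵥ x)) (hdet : B.det = 1)

include hpos heven in
theorem two_half (x : Fin 24 → ℤ) : x ⬝ᵥ (B *ᵥ x) = 2 * (half B x : ℤ) := by
  obtain ⟨j, hj⟩ := heven x
  have : 0 ≤ x ⬝ᵥ (B *ᵥ x) := by
    by_cases h : x = 0
    · simp [h]
    · exact (hpos x h).le
  rw [half]; omega

include hpos heven in
theorem term_eq (τ : ℂ) (x : Fin 24 → ℤ) :
    Complex.exp (π * Complex.I * τ * ((x ⬝ᵥ (B *ᵥ x) : ℤ) : ℂ)) = 𝕢 1 τ ^ half B x := by
  rw [two_half B hpos heven x, Periodic.qParam, ← Complex.exp_nat_mul]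
  congr 1
  push_cast
  ring

include hpos heven in
theorem theta_periodic (τ : ℂ) : theta B (τ + 1) = theta B τ := by
  refine tsum_congr fun x => Complex.exp_eq_exp_iff_exists_int.mpr ⟨half B x, ?_⟩
  rw [two_half B hpos heven x]
  push_cast
  ring

include hs hpos heven hdet in
theorem hasSum_terms (τ : ℍ) : HasSum (fun x => 𝕢 1 (τ : ℂ) ^ half B x) (theta B τ) := by
  obtain ⟨F⟩ := exists_frame hs hpos
  have h : Summable fun x : Fin 24 → ℤ => Complex.exp (π * Complex.I * (τ : ℂ) * ((x ⬝ᵥ (B *ᵥ x) : ℤ) : ℂ)) :=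
    (((F.gauss_summable τ.im_pos).comp_injective (F.yv_injective hdet)).congr fun x => by
      show ‖F.gauss τ (F.yv x)‖ = _
      rw [F.gauss_yv hs]).of_norm
  have := h.hasSum
  simp only [term_eq B hpos heven] at this
  convert this using 1
  exact tsum_congr fun x => term_eq B hpos heven _ x

include hs hpos heven hdet in
theorem shell_finite (n : ℕ) : {x : Fin 24 → ℤ | half B x = n}.Finite := by
  have h := (hasSum_terms B hs hpos heven hdet UpperHalfPlane.I).summable.tendsto_cofinite_zero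
  have hq : 0 < ‖𝕢 1 (UpperHalfPlane.I : ℂ) ^ n‖ := norm_pos_iff.mpr (pow_ne_zero _ (Periodic.qParam_ne_zero _))
  have := eventually_cofinite.mp (h.norm.eventually_lt_const
    (show ‖(0 : ℂ)‖ < ‖𝕢 1 (UpperHalfPlane.I : ℂ) ^ n‖ by simpa using hq))
  refine this.subset fun x hx => ?_
  rw [Set.mem_ofPred_eq] at hx ⊢
  rw [hx]
  exact lt_irrefl _

include hs hpos heven hdet in
theorem hasSum_shells (τ : ℍ) :
    HasSum (fun n => ({x : Fin 24 → ℤ | half B x = n}.ncard : ℂ) • 𝕢 1 (τ : ℂ) ^ n) (theta B τ) := by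
  have h := (Equiv.sigmaFiberEquiv (half B)).hasSum_iff.mpr (hasSum_terms B hs hpos heven hdet τ)
  refine h.sigma fun n => ?_
  haveI : Fintype {x : Fin 24 → ℤ // half B x = n} := (shell_finite B hs hpos heven hdet n).fintype
  convert hasSum_fintype (fun x : {x : Fin 24 → ℤ // half B x = n} => 𝕢 1 (τ : ℂ) ^ half B x.1) using 1
  · rfl
  rw [Finset.sum_congr rfl fun x _ => congrArg (𝕢 1 (τ : ℂ) ^ ·) x.2, Finset.sum_const, Finset.card_univ,
    ← Nat.card_eq_fintype_card, ← Nat.card_coe_set_eq, smul_eq_mul, nsmul_eq_mul]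
  rfl

set_option backward.isDefEq.respectTransparency.types false in
include hs hpos heven hdet in
theorem theta_slash : ∀ γ : SL(2, ℤ), (fun z : ℍ => theta B z) ∣[(12 : ℤ)] γ = fun z : ℍ => theta B z := by
  obtain ⟨F⟩ := exists_frame hs hpos
  refine SlashInvariantForm.slash_action_generators_SL2Z ?_ ?_
  · ext z
    rw [SlashInvariantForm.slash_S_apply]
    show theta B ((-(z : ℂ))⁻¹) * (z : ℂ) ^ (-(12 : ℤ)) = theta B z
    rw [show ((-(z : ℂ))⁻¹) = -1 / (z : ℂ) by rw [inv_neg, neg_div, one_div],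
      F.theta_inversion hs hdet z.im_pos, _root_.zpow_neg, show (z : ℂ) ^ (12 : ℤ) = (z : ℂ) ^ 12 from zpow_natCast _ 12]
    rw [mul_comm ((z : ℂ) ^ 12), mul_assoc, mul_inv_cancel₀ (pow_ne_zero 12 z.ne_zero), mul_one]
  · ext z
    rw [SL_slash_apply, modular_T_smul, denom, ModularGroup.T]
    simp [add_comm (1 : ℂ), theta_periodic B hpos heven]

include hs hpos heven hdet in
theorem theta_holo : MDifferentiable 𝓘(ℂ) 𝓘(ℂ) fun z : ℍ => theta B z := by
  obtain ⟨F⟩ := exists_frame hs hpos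
  rw [UpperHalfPlane.mdifferentiable_iff]
  refine .congr (f := fun τ => (F.res.card : ℂ)⁻¹ *
    ∑ c ∈ F.res, ∏ i, jacobiTheta₂ ((c i : ℂ) / (F.d i : ℂ)) (τ / (F.d i : ℂ))) (fun τ hτ => ?_) fun τ hτ => ?_
  · refine (DifferentiableAt.const_mul (DifferentiableAt.fun_sum fun c _ => ?_) _).differentiableWithinAt
    refine DifferentiableAt.fun_finsetProd fun i _ => ?_
    have hi : 0 < (τ / (F.d i : ℂ)).im := by
      rw [Complex.div_natCast_im]; exact div_pos hτ (Nat.cast_pos.mpr (F.pos i))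
    exact DifferentiableAt.comp τ (g := fun w => jacobiTheta₂ ((c i : ℂ) / (F.d i : ℂ)) w)
      (differentiableAt_jacobiTheta₂_snd _ hi) (differentiableAt_id.div_const _)
  · simp only [Function.comp_apply, ofComplex_apply_of_im_pos hτ]
    exact F.theta_eq_sum hs hdet hτ

/-- The theta series as a modular form. -/
noncomputable def thetaForm : ModularForm 𝒮ℒ 12 where
  toFun z := theta B z
  slash_action_eq' _ hA := by
    obtain ⟨A, rfl⟩ := hA
    exact theta_slash B hs hpos heven hdet A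
  holo' := theta_holo B hs hpos heven hdet
  bdd_at_cusps' {c} hc := by
    rw [Subgroup.IsArithmetic.isCusp_iff_isCusp_SL2Z] at hc
    rw [OnePoint.isBoundedAt_iff_forall_SL2Z hc]
    intro γ _
    rw [theta_slash B hs hpos heven hdet]
    exact isBoundedAtImInfty_of_hasSum_qExpansion one_pos (hasSum_shells B hs hpos heven hdet)

include hs hpos heven hdet in
theorem shell_coeff (n : ℕ) :
    ({x : Fin 24 → ℤ | half B x = n}.ncard : ℂ) = (qExpansion 1 (thetaForm B hs hpos heven hdet)).coeff n :=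
  ModularFormClass.qExpansion_coeff_unique (f := thetaForm B hs hpos heven hdet)
    (c := fun n => ({x : Fin 24 → ℤ | half B x = n}.ncard : ℂ)) one_pos one_mem_strictPeriods_SL
    (hasSum_shells B hs hpos heven hdet) n

/-- The form of weight twelve with vanishing first coefficient. -/
noncomputable def extremal : ModularForm 𝒮ℒ 12 :=
  (7 / 12 : ℂ) • ModularForm.mcast (by decide) (E₄.pow 3) + (5 / 12 : ℂ) • ModularForm.mcast (by decide) (E₆.pow 2)

theorem extremal_qExpansion : qExpansion 1 extremal =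
    (7 / 12 : ℂ) • qExpansion 1 E₄ ^ 3 + (5 / 12 : ℂ) • qExpansion 1 E₆ ^ 2 := by
  rw [extremal, FunLike.coe_add, ModularForm.qExpansion_add one_pos one_mem_strictPeriods_SL,
    FunLike.coe_smul, ModularForm.qExpansion_smul one_pos one_mem_strictPeriods_SL,
    FunLike.coe_smul, ModularForm.qExpansion_smul one_pos one_mem_strictPeriods_SL]
  simp only [coe_mcast, ModularForm.qExpansion_pow one_pos one_mem_strictPeriods_SL]

theorem extremal_coeffs : (qExpansion 1 extremal).coeff 0 = 1 ∧ (qExpansion 1 extremal).coeff 1 = 0 ∧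
    (qExpansion 1 extremal).coeff 2 = 196560 ∧ (qExpansion 1 extremal).coeff 3 = 16773120 ∧
    (qExpansion 1 extremal).coeff 4 = 398034000 := by
  have h4 : ∀ m, (qExpansion 1 E₄).coeff m = if m = 0 then 1 else 240 * (ArithmeticFunction.sigma 3 m : ℂ) := fun m => by
    rw [EisensteinSeries.E_qExpansion_coeff _ ⟨2, rfl⟩]
    norm_num [show bernoulli 4 = -1 / 30 by decide +kernel]
  have h6 : ∀ m, (qExpansion 1 E₆).coeff m = if m = 0 then 1 else -504 * (ArithmeticFunction.sigma 5 m : ℂ) := fun m => by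
    rw [EisensteinSeries.E_qExpansion_coeff _ ⟨3, rfl⟩]
    norm_num [show bernoulli 6 = 1 / 42 by decide +kernel]
  have s : ArithmeticFunction.sigma 3 1 = 1 ∧ ArithmeticFunction.sigma 3 2 = 9 ∧
      ArithmeticFunction.sigma 3 3 = 28 ∧ ArithmeticFunction.sigma 3 4 = 73 ∧
      ArithmeticFunction.sigma 5 1 = 1 ∧ ArithmeticFunction.sigma 5 2 = 33 ∧
      ArithmeticFunction.sigma 5 3 = 244 ∧ ArithmeticFunction.sigma 5 4 = 1057 := by decide +kernel
  obtain ⟨s1, s2, s3, s4, t1, t2, t3, t4⟩ := s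
  rw [extremal_qExpansion]
  simp only [map_add, PowerSeries.coeff_smul, smul_eq_mul, pow_succ, pow_zero, one_mul, PowerSeries.coeff_mul,
    Finset.Nat.antidiagonal_succ, Finset.Nat.antidiagonal_zero, Finset.sum_cons, Finset.sum_map, Finset.sum_singleton,
    Function.Embedding.coe_prodMap, Prod.map_fst, Prod.map_snd, Function.Embedding.coeFn_mk, Function.Embedding.refl_apply,
    h4, h6, s1, s2, s3, s4, t1, t2, t3, t4, Nat.succ_eq_add_one, Nat.reduceAdd]
  norm_num

include hs hpos heven hdet in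
theorem shells (h2 : ∀ x : Fin 24 → ℤ, x ⬝ᵥ (B *ᵥ x) ≠ 2) :
    {x : Fin 24 → ℤ | x ⬝ᵥ (B *ᵥ x) = 4}.ncard = 196560 ∧ {x : Fin 24 → ℤ | x ⬝ᵥ (B *ᵥ x) = 6}.ncard = 16773120 ∧
      {x : Fin 24 → ℤ | x ⬝ᵥ (B *ᵥ x) = 8}.ncard = 398034000 := by
  obtain ⟨e0, e1, e2, e3, e4⟩ := extremal_coeffs
  have hN : ∀ n : ℕ, {x : Fin 24 → ℤ | x ⬝ᵥ (B *ᵥ x) = 2 * (n : ℤ)} = {x : Fin 24 → ℤ | half B x = n} := fun n => by
    ext x
    simp only [Set.mem_ofPred_eq, two_half B hpos heven x]
    omega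
  have h0 : {x : Fin 24 → ℤ | half B x = 0} = {0} := by
    rw [← hN 0]
    ext x
    simp only [Set.mem_ofPred_eq, Set.mem_singleton_iff, Nat.cast_zero, mul_zero]
    refine ⟨fun h => ?_, fun h => by simp [h]⟩
    by_contra hne
    exact (hpos x hne).ne' h
  have h1 : {x : Fin 24 → ℤ | half B x = 1} = ∅ := by
    rw [← hN 1]
    exact Set.eq_empty_of_forall_notMem fun x hx => h2 x (by simpa using hx)
  have heq : thetaForm B hs hpos heven hdet = extremal := by
    rw [← sub_eq_zero]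
    refine ModularForm.sturm_bound_levelOne (lt_of_lt_of_le (b := (2 : ℕ∞)) (by decide) ?_)
    refine PowerSeries.nat_le_order _ 2 fun i hi => ?_
    rw [FunLike.coe_sub, ModularForm.qExpansion_sub one_pos one_mem_strictPeriods_SL, map_sub, sub_eq_zero,
      ← shell_coeff B hs hpos heven hdet]
    interval_cases i
    · rw [h0, Set.ncard_singleton, e0, Nat.cast_one]
    · rw [h1, Set.ncard_empty, e1, Nat.cast_zero]
  have key : ∀ n : ℕ, ∀ v : ℕ, (qExpansion 1 extremal).coeff n = (v : ℂ) →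
      {x : Fin 24 → ℤ | x ⬝ᵥ (B *ᵥ x) = 2 * (n : ℤ)}.ncard = v := fun n v hv => by
    rw [← heq, ← shell_coeff B hs hpos heven hdet n] at hv
    rw [hN n]
    exact_mod_cast hv
  exact ⟨key 2 196560 (by simpa using e2), key 3 16773120 (by simpa using e3), key 4 398034000 (by simpa using e4)⟩

end Cfsg.Lib.Theta
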