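import Mathlib

/-!
An orthogonal frame inside an integral lattice of determinant one, and the finite group it cuts out.
-/

namespace Cfsg.Lib.Theta

open Matrix

variable {B : Matrix (Fin 24) (Fin 24) ℤ}

/-- An integral frame of pairwise orthogonal vectors of positive norm. -/
structure Frame (B : Matrix (Fin 24) (Fin 24) ℤ) where
  /-- The vectors, as columns. -/
  P : Matrix (Fin 24) (Fin 24) ℤ
  /-- Their norms. -/
  d : Fin 24 → ℕ
  pos : ∀ i, 0 < d i
  diag : Pᵀ * B * P = diagonal fun i => (d i : ℤ)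

/-- Rational extension of a form. -/
abbrev ratM (B : Matrix (Fin 24) (Fin 24) ℤ) : Matrix (Fin 24) (Fin 24) ℚ := B.map fun x : ℤ => (x : ℚ)

theorem ratM_mul (A C : Matrix (Fin 24) (Fin 24) ℤ) : ratM (A * C) = ratM A * ratM C := by
  ext i j; simp [Matrix.mul_apply]

theorem exists_frame (hsymm : B.IsSymm) (hpos : ∀ x : Fin 24 → ℤ, x ≠ 0 → 0 < x ⬝ᵥ (B *ᵥ x)) :
    Nonempty (Frame B) := by
  classical
  set F := Matrix.toBilin' (ratM B) with hF
  have hFs : LinearMap.IsSymm F := ⟨fun x y => by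
    have hs : (ratM B)ᵀ = ratM B := by rw [ratM, ← transpose_map, hsymm.eq]
    simp only [hF, Matrix.toBilin'_apply']
    rw [RingHom.id_apply, dotProduct_comm, ← vecMul_transpose, hs, dotProduct_mulVec]⟩
  haveI : Invertible (2 : ℚ) := invertibleOfNonzero two_ne_zero
  obtain ⟨v0, hv0⟩ := LinearMap.BilinForm.exists_orthogonal_basis hFs
  have hn : Module.finrank ℚ (Fin 24 → ℚ) = 24 := Module.finrank_fin_fun ℚ
  set v : Fin 24 → (Fin 24 → ℚ) := fun i => v0 (finCongr hn.symm i)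
  have hne : ∀ i, v i ≠ 0 := fun i => v0.ne_zero _
  have hor : ∀ i j, i ≠ j → v i ⬝ᵥ (ratM B *ᵥ v j) = 0 := fun i j hij => by
    rw [← Matrix.toBilin'_apply']
    exact hv0 fun h => hij ((finCongr hn.symm).injective h)
  set N : ℕ := ∏ p : Fin 24 × Fin 24, (v p.1 p.2).den with hN
  have hN0 : (N : ℚ) ≠ 0 := Nat.cast_ne_zero.mpr (Finset.prod_ne_zero_iff.mpr fun p _ => (v p.1 p.2).den_ne_zero)
  set P : Matrix (Fin 24) (Fin 24) ℤ := Matrix.of fun i j => (v j i).num * ((N / (v j i).den : ℕ) : ℤ) with hP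
  have hPv : ∀ i j, (P i j : ℚ) = (N : ℚ) * v j i := fun i j => by
    have hd : (v j i).den ∣ N := Finset.dvd_prod_of_mem (fun p : Fin 24 × Fin 24 => (v p.1 p.2).den)
      (Finset.mem_univ (j, i))
    have hd0 : ((v j i).den : ℚ) ≠ 0 := Nat.cast_ne_zero.mpr (v j i).den_ne_zero
    rw [hP, Matrix.of_apply, Int.cast_mul, Int.cast_natCast, Nat.cast_div hd hd0]
    nth_rw 3 [← Rat.num_div_den (v j i)]
    field_simp
  have hcol : ∀ i, (fun k => (P k i : ℚ)) = (N : ℚ) • v i := fun i => funext fun k => hPv k i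
  have hentry : ∀ i j, (((Pᵀ * B * P) i j : ℤ) : ℚ) = (N : ℚ) * N * (v i ⬝ᵥ (ratM B *ᵥ v j)) := fun i j => by
    have : (((Pᵀ * B * P) i j : ℤ) : ℚ) = (fun k => (P k i : ℚ)) ⬝ᵥ (ratM B *ᵥ fun k => (P k j : ℚ)) := by
      rw [Matrix.mul_assoc]
      simp only [Matrix.mul_apply, dotProduct, Matrix.mulVec, Matrix.transpose_apply, Matrix.map_apply]
      push_cast
      rfl
    rw [this, hcol, hcol, Matrix.mulVec_smul, smul_dotProduct, dotProduct_smul, smul_eq_mul, smul_eq_mul, mul_assoc]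
  have hdiag : ∀ i, 0 < (Pᵀ * B * P) i i := fun i => by
    rw [show (Pᵀ * B * P) i i = (fun k => P k i) ⬝ᵥ (B *ᵥ fun k => P k i) by
      rw [Matrix.mul_assoc]
      simp only [Matrix.mul_apply, dotProduct, Matrix.mulVec, Matrix.transpose_apply]]
    refine hpos _ fun h => hne i (funext fun k => ?_)
    have : (P k i : ℚ) = 0 := by rw [congrFun h k]; simp
    rw [hPv] at this
    exact (mul_eq_zero.mp this).resolve_left hN0
  refine ⟨⟨P, fun i => ((Pᵀ * B * P) i i).toNat, fun i => by have := hdiag i; omega, ?_⟩⟩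
  ext i j
  by_cases h : i = j
  · subst h; rw [diagonal_apply_eq, Int.toNat_of_nonneg (hdiag i).le]
  · rw [diagonal_apply_ne _ h]
    have := hentry i j
    rw [hor i j h, mul_zero] at this
    exact_mod_cast this

namespace Frame

variable (F : Frame B)

/-- The coordinates of a vector against the frame. -/
def yv (x : Fin 24 → ℤ) : Fin 24 → ℤ := (F.Pᵀ * B) *ᵥ x

/-- The pairing in frame coordinates. -/
def pair (c y : Fin 24 → ℤ) : ℚ := ∑ i, (c i : ℚ) * (y i : ℚ) / (F.d i : ℚ)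

theorem d_ne (i : Fin 24) : (F.d i : ℚ) ≠ 0 := Nat.cast_ne_zero.mpr (F.pos i).ne'

theorem rat_diag : (ratM F.P)ᵀ * ratM B * ratM F.P = diagonal fun i => (F.d i : ℚ) := by
  rw [show (ratM F.P)ᵀ = ratM F.Pᵀ from rfl, ← ratM_mul, ← ratM_mul, F.diag]
  ext i j
  by_cases h : i = j <;> simp [h]

theorem resolve : ratM F.P * ((diagonal fun i => (F.d i : ℚ)⁻¹) * ((ratM F.P)ᵀ * ratM B)) = 1 := by
  rw [mul_eq_one_comm, Matrix.mul_assoc, F.rat_diag, diagonal_mul_diagonal, ← diagonal_one]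
  congr 1
  funext i
  exact inv_mul_cancel₀ (F.d_ne i)

theorem cast_mulVec (A : Matrix (Fin 24) (Fin 24) ℤ) (x : Fin 24 → ℤ) :
    (fun i => ((A *ᵥ x) i : ℚ)) = ratM A *ᵥ fun i => (x i : ℚ) := by
  funext i; simp [Matrix.mulVec, dotProduct]

theorem pair_yv (hs : B.IsSymm) (u x : Fin 24 → ℤ) : F.pair (F.yv u) (F.yv x) = ((u ⬝ᵥ (B *ᵥ x) : ℤ) : ℚ) := by
  set uq : Fin 24 → ℚ := fun i => (u i : ℚ)
  set xq : Fin 24 → ℚ := fun i => (x i : ℚ)
  set M := (ratM F.P)ᵀ * ratM B with hM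
  have hu : (fun i => ((F.yv u) i : ℚ)) = M *ᵥ uq := by rw [yv, cast_mulVec, ratM_mul]; rfl
  have hx : (fun i => ((F.yv x) i : ℚ)) = M *ᵥ xq := by rw [yv, cast_mulVec, ratM_mul]; rfl
  have h1 : F.pair (F.yv u) (F.yv x) =
      (fun i => ((F.yv u) i : ℚ)) ⬝ᵥ ((diagonal fun i => (F.d i : ℚ)⁻¹) *ᵥ fun i => ((F.yv x) i : ℚ)) := by
    simp only [pair, dotProduct, mulVec_diagonal]
    exact Finset.sum_congr rfl fun i _ => by ring
  have hBs : (ratM B)ᵀ = ratM B := by rw [ratM, ← transpose_map, hs.eq]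
  rw [h1, hu, hx, mulVec_mulVec, ← vecMul_transpose, ← dotProduct_mulVec, mulVec_mulVec]
  have : Mᵀ * ((diagonal fun i => (F.d i : ℚ)⁻¹) * M) = ratM B := by
    rw [show Mᵀ = ratM B * ratM F.P by rw [hM, transpose_mul, hBs, transpose_transpose], Matrix.mul_assoc,
      F.resolve, Matrix.mul_one]
  rw [this, ← cast_mulVec]
  simp [uq, dotProduct]

end Frame

end Cfsg.Lib.Theta
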