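import Mathlib

/-!
A product of absolutely convergent series as a series over tuples.
-/

namespace Cfsg.Lib.Theta

open scoped BigOperators

theorem pi_prod_series : ∀ {n : ℕ} (f : Fin n → ℤ → ℂ), (∀ i, Summable fun m => ‖f i m‖) →
    (Summable fun y : Fin n → ℤ => ‖∏ i, f i (y i)‖) ∧
      ∑' y : Fin n → ℤ, ∏ i, f i (y i) = ∏ i, ∑' m, f i m := by
  intro n
  induction n with
  | zero =>
    intro f _
    refine ⟨(hasSum_fintype _).summable, ?_⟩
    rw [tsum_fintype]
    simp
  | succ n ih =>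
    intro f hf
    obtain ⟨hs, he⟩ := ih (fun i => f i.succ) fun i => hf i.succ
    set e := Fin.consEquiv (fun _ : Fin (n + 1) => ℤ) with he'
    have hcomp : ∀ p : ℤ × (Fin n → ℤ), ∏ i, f i (e p i) = f 0 p.1 * ∏ i : Fin n, f i.succ (p.2 i) := fun p => by
      rw [Fin.prod_univ_succ]; simp [he', Fin.consEquiv]
    refine ⟨?_, ?_⟩
    · rw [← e.summable_iff]
      refine ((hf 0).mul_norm hs).congr fun p => ?_
      show _ = ‖∏ i, f i (e p i)‖
      rw [hcomp]
    · rw [← e.tsum_eq]
      simp only [hcomp]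
      rw [← tsum_mul_tsum_of_summable_norm (hf 0) hs, he, Fin.prod_univ_succ]

end Cfsg.Lib.Theta
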