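import Cfsg.Agent.Theta.Diag

/-!
The residues cut out by a determinant one lattice in frame coordinates: a self-dual finite set.
-/

namespace Cfsg.Lib.Theta

open Matrix Complex

/-- The additive character on rationals. -/
noncomputable def ex (r : ℚ) : ℂ := Complex.exp (2 * Real.pi * Complex.I * (r : ℂ))

theorem ex_add (r s : ℚ) : ex (r + s) = ex r * ex s := by
  rw [ex, ex, ex, ← Complex.exp_add, Rat.cast_add, mul_add]

theorem ex_int (n : ℤ) : ex (n : ℚ) = 1 := by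
  rw [ex, Complex.exp_eq_one_iff]
  exact ⟨n, by push_cast; ring⟩

theorem ex_ne_one {r : ℚ} (h : ∀ n : ℤ, r ≠ (n : ℚ)) : ex r ≠ 1 := by
  rw [ex, Ne, Complex.exp_eq_one_iff]
  rintro ⟨n, hn⟩
  refine h n ?_
  have h2 : (2 * Real.pi * Complex.I : ℂ) ≠ 0 := Complex.two_pi_I_ne_zero
  have : (r : ℂ) = ((n : ℚ) : ℂ) := mul_left_cancel₀ h2 (by rw [hn]; push_cast; ring)
  exact_mod_cast this

namespace Frame

variable {B : Matrix (Fin 24) (Fin 24) ℤ} (F : Frame B)

/-- The lattice in frame coordinates. -/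
def Y : AddSubgroup (Fin 24 → ℤ) := ((F.Pᵀ * B).mulVecLin).toAddMonoidHom.range

theorem mem_Y {y : Fin 24 → ℤ} : y ∈ F.Y ↔ ∃ x, F.yv x = y := Iff.rfl

theorem scaled_mem (n : Fin 24 → ℤ) : (fun i => (F.d i : ℤ) * n i) ∈ F.Y :=
  ⟨F.P *ᵥ n, by
    show (F.Pᵀ * B) *ᵥ (F.P *ᵥ n) = _
    rw [mulVec_mulVec, F.diag]
    funext i
    rw [mulVec_diagonal]⟩

/-- The reduced residue of a vector. -/
def red (y : Fin 24 → ℤ) : Fin 24 → ℤ := fun i => y i % (F.d i : ℤ)

theorem red_split (y : Fin 24 → ℤ) : y - F.red y ∈ F.Y := by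
  convert F.scaled_mem (fun i => y i / (F.d i : ℤ)) using 1
  funext i
  simp only [Pi.sub_apply, red]
  rw [Int.emod_def]; ring

/-- The residues. -/
noncomputable def res : Finset (Fin 24 → ℤ) := by
  classical exact (Fintype.piFinset fun i => Finset.Ico (0 : ℤ) (F.d i : ℤ)).filter (· ∈ F.Y)

theorem mem_res {c : Fin 24 → ℤ} : c ∈ F.res ↔ (∀ i, 0 ≤ c i ∧ c i < (F.d i : ℤ)) ∧ c ∈ F.Y := by
  classical
  simp [res, Fintype.mem_piFinset]

theorem red_mem {y : Fin 24 → ℤ} (hy : y ∈ F.Y) : F.red y ∈ F.res := by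
  refine F.mem_res.mpr ⟨fun i => ?_, ?_⟩
  · have h : (0 : ℤ) < (F.d i : ℤ) := by exact_mod_cast F.pos i
    exact ⟨Int.emod_nonneg _ h.ne', Int.emod_lt_of_pos _ h⟩
  · have := sub_mem hy (F.red_split y)
    rwa [sub_sub_cancel] at this

theorem res_nonempty : F.res.Nonempty := ⟨F.red 0, F.red_mem (zero_mem _)⟩

theorem pair_add_left (c c' y : Fin 24 → ℤ) : F.pair (c + c') y = F.pair c y + F.pair c' y := by
  simp only [pair, Pi.add_apply, Int.cast_add, ← Finset.sum_add_distrib]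
  exact Finset.sum_congr rfl fun i _ => by ring

theorem pair_comm (c y : Fin 24 → ℤ) : F.pair c y = F.pair y c := Finset.sum_congr rfl fun i _ => by ring

theorem pair_scaled (n y : Fin 24 → ℤ) :
    F.pair (fun i => (F.d i : ℤ) * n i) y = ((∑ i, n i * y i : ℤ) : ℚ) := by
  simp only [pair, Int.cast_sum, Int.cast_mul, Int.cast_natCast]
  refine Finset.sum_congr rfl fun i _ => ?_
  have := F.d_ne i
  field_simp

theorem ex_pair_red (c y : Fin 24 → ℤ) : ex (F.pair (F.red c) y) = ex (F.pair c y) := by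
  have e : c = F.red c + fun i => (F.d i : ℤ) * (c i / (F.d i : ℤ)) := by
    funext i; simp only [Pi.add_apply, red]; exact (Int.emod_add_mul_ediv _ _).symm
  conv_rhs => rw [e, pair_add_left, pair_scaled, ex_add, ex_int, mul_one]

/-- The lattice is its own dual. -/
theorem mem_Y_of_perp (hs : B.IsSymm) (hdet : B.det = 1) {c : Fin 24 → ℤ}
    (h : ∀ y ∈ F.Y, ∃ n : ℤ, F.pair c y = (n : ℚ)) : c ∈ F.Y := by
  classical
  choose z hz using fun j => h (F.yv (Pi.single j 1)) (F.mem_Y.mpr ⟨_, rfl⟩)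
  set cq : Fin 24 → ℚ := fun i => (c i : ℚ)
  set Dinv : Matrix (Fin 24) (Fin 24) ℚ := diagonal fun i => (F.d i : ℚ)⁻¹
  have hBs : (ratM B)ᵀ = ratM B := by rw [ratM, ← transpose_map, hs.eq]
  have hzq : (fun j => (z j : ℚ)) = ratM B *ᵥ (ratM F.P *ᵥ (Dinv *ᵥ cq)) := by
    funext j
    rw [← hz j]
    have e : (fun i => ((F.yv (Pi.single j 1)) i : ℚ)) =
        ((ratM F.P)ᵀ * ratM B) *ᵥ (Pi.single j (1 : ℚ)) := by
      rw [yv, cast_mulVec, ratM_mul]
      congr 1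
      funext i
      by_cases hij : i = j
      · subst hij; simp
      · simp [hij]
    have e2 : F.pair c (F.yv (Pi.single j 1)) =
        (Dinv *ᵥ cq) ⬝ᵥ (fun i => ((F.yv (Pi.single j 1)) i : ℚ)) := by
      simp only [pair, dotProduct, Dinv, mulVec_diagonal, cq]
      exact Finset.sum_congr rfl fun i _ => by ring
    rw [e2, e, dotProduct_mulVec, ← mulVec_transpose, transpose_mul, hBs, transpose_transpose, ← mulVec_mulVec,
      dotProduct_single, mul_one]
  refine F.mem_Y.mpr ⟨B.adjugate *ᵥ z, ?_⟩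
  have h1 : F.yv (B.adjugate *ᵥ z) = F.Pᵀ *ᵥ z := by
    rw [yv, mulVec_mulVec, Matrix.mul_assoc, mul_adjugate, hdet, one_smul, Matrix.mul_one]
  rw [h1]
  funext i
  have h2 := congrFun (cast_mulVec F.Pᵀ z) i
  have h3 : ratM F.Pᵀ *ᵥ (fun j => (z j : ℚ)) = cq := by
    rw [hzq, show ratM F.Pᵀ = (ratM F.P)ᵀ from rfl, mulVec_mulVec, mulVec_mulVec, mulVec_mulVec, F.rat_diag,
      diagonal_mul_diagonal]
    rw [show (fun i => (F.d i : ℚ) * (F.d i : ℚ)⁻¹) = fun _ => (1 : ℚ) from funext fun i => mul_inv_cancel₀ (F.d_ne i),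
      diagonal_one, one_mulVec]
  rw [h3] at h2
  simp only [cq] at h2
  exact_mod_cast h2

theorem pair_int (hs : B.IsSymm) {c y : Fin 24 → ℤ} (hc : c ∈ F.Y) (hy : y ∈ F.Y) :
    ∃ n : ℤ, F.pair c y = (n : ℚ) := by
  obtain ⟨u, rfl⟩ := F.mem_Y.mp hc
  obtain ⟨x, rfl⟩ := F.mem_Y.mp hy
  exact ⟨_, F.pair_yv hs u x⟩

/-- Orthogonality. -/
theorem sum_ex (hs : B.IsSymm) (hdet : B.det = 1) (y : Fin 24 → ℤ) [Decidable (y ∈ F.Y)] :
    ∑ c ∈ F.res, ex (F.pair c y) = if y ∈ F.Y then (F.res.card : ℂ) else 0 := by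
  classical
  split_ifs with hy
  · rw [Finset.card_eq_sum_ones, Nat.cast_sum, Nat.cast_one]
    refine Finset.sum_congr rfl fun c hc => ?_
    obtain ⟨n, hn⟩ := F.pair_int hs (F.mem_res.mp hc).2 hy
    rw [hn, ex_int]
  · obtain ⟨w, hw, hwn⟩ : ∃ w ∈ F.Y, ∀ n : ℤ, F.pair y w ≠ (n : ℚ) := by
      by_contra! hall
      exact hy (F.mem_Y_of_perp hs hdet hall)
    have hbij : ∑ c ∈ F.res, ex (F.pair (F.red (c + w)) y) = ∑ c ∈ F.res, ex (F.pair c y) := by
      refine Finset.sum_bij (fun c _ => F.red (c + w)) (fun c hc => F.red_mem (add_mem (F.mem_res.mp hc).2 hw))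
        (fun c hc c' hc' h => ?_) (fun b hb => ⟨F.red (b - w), F.red_mem (sub_mem (F.mem_res.mp hb).2 hw), ?_⟩)
        fun c _ => rfl
      · funext i
        have h1 : (c i + w i) % (F.d i : ℤ) = (c' i + w i) % (F.d i : ℤ) := congrFun h i
        have h2 := Int.emod_eq_emod_iff_emod_sub_eq_zero.mp h1
        rw [add_sub_add_right_eq_sub] at h2
        have h3 := Int.emod_eq_emod_iff_emod_sub_eq_zero.mpr h2
        rwa [Int.emod_eq_of_lt ((F.mem_res.mp hc).1 i).1 ((F.mem_res.mp hc).1 i).2,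
          Int.emod_eq_of_lt ((F.mem_res.mp hc').1 i).1 ((F.mem_res.mp hc').1 i).2] at h3
      · funext i
        simp only [red, Pi.add_apply, Pi.sub_apply]
        rw [Int.emod_add_emod, sub_add_cancel,
          Int.emod_eq_of_lt ((F.mem_res.mp hb).1 i).1 ((F.mem_res.mp hb).1 i).2]
    simp only [ex_pair_red, pair_add_left, ex_add, ← Finset.sum_mul] at hbij
    have hne : ex (F.pair w y) ≠ 1 := ex_ne_one (by rw [F.pair_comm]; exact hwn)
    by_contra h0
    exact hne (mul_left_cancel₀ h0 (hbij.trans (mul_one _).symm))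

end Frame

end Cfsg.Lib.Theta
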