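import Cfsg.Agent.Theta.Pi
import Cfsg.Agent.Theta.Residues

/-!
The theta series of a determinant one lattice and its transformation under inversion.
-/

namespace Cfsg.Lib.Theta

open Matrix Complex
open scoped Real

/-- The theta series. -/
noncomputable def theta (B : Matrix (Fin 24) (Fin 24) ℤ) (τ : ℂ) : ℂ :=
  ∑' x : Fin 24 → ℤ, Complex.exp (π * I * τ * ((x ⬝ᵥ (B *ᵥ x) : ℤ) : ℂ))

namespace Frame

variable {B : Matrix (Fin 24) (Fin 24) ℤ} (F : Frame B) (hs : B.IsSymm) (hdet : B.det = 1)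

/-- The Gaussian in frame coordinates. -/
noncomputable def gauss (τ : ℂ) (y : Fin 24 → ℤ) : ℂ :=
  ∏ i, Complex.exp (π * I * τ * ((y i : ℂ) ^ 2 / (F.d i : ℂ)))

theorem d_neC (i : Fin 24) : (F.d i : ℂ) ≠ 0 := Nat.cast_ne_zero.mpr (F.pos i).ne'

include hdet in
theorem yv_injective : Function.Injective F.yv := by
  intro x x' h
  have h' : (ratM F.Pᵀ * ratM B) *ᵥ (fun i => (x i : ℚ)) = (ratM F.Pᵀ * ratM B) *ᵥ (fun i => (x' i : ℚ)) := by
    rw [← ratM_mul, ← cast_mulVec, ← cast_mulVec]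
    funext i
    exact congrArg (fun z : ℤ => (z : ℚ)) (congrFun h i)
  have hr : ((ratM F.P) * (diagonal fun i => (F.d i : ℚ)⁻¹)) * (ratM F.Pᵀ * ratM B) = 1 := by
    rw [Matrix.mul_assoc]; exact F.resolve
  have := congrArg (((ratM F.P) * (diagonal fun i => (F.d i : ℚ)⁻¹)) *ᵥ ·) h'
  simp only [mulVec_mulVec, hr, one_mulVec] at this
  funext i
  exact_mod_cast congrFun this i

include hs in
theorem gauss_yv (τ : ℂ) (x : Fin 24 → ℤ) :
    F.gauss τ (F.yv x) = Complex.exp (π * I * τ * ((x ⬝ᵥ (B *ᵥ x) : ℤ) : ℂ)) := by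
  have h := congrArg (fun r : ℚ => (r : ℂ)) (F.pair_yv hs x x)
  simp only [pair, Rat.cast_intCast] at h
  rw [gauss, ← Complex.exp_sum, ← h]
  congr 1
  push_cast
  rw [Finset.mul_sum]
  exact Finset.sum_congr rfl fun i _ => by ring

theorem gauss_summable {τ : ℂ} (hτ : 0 < τ.im) : Summable fun y => ‖F.gauss τ y‖ := by
  refine (pi_prod_series (fun i m => Complex.exp (π * I * τ * ((m : ℂ) ^ 2 / (F.d i : ℂ)))) fun i => ?_).1
  have h : 0 < (τ / (F.d i : ℂ)).im := by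
    rw [Complex.div_natCast_im]
    exact div_pos hτ (Nat.cast_pos.mpr (F.pos i))
  refine ((summable_jacobiTheta₂_term_iff 0 (τ / (F.d i : ℂ))).mpr h).norm.congr fun m => ?_
  rw [jacobiTheta₂_term]
  congr 2
  ring

include hdet hs in
theorem theta_eq_tsum (τ : ℂ) : theta B τ = ∑' x, F.gauss τ (F.yv x) :=
  tsum_congr fun x => (F.gauss_yv hs τ x).symm

include hdet in
theorem tsum_yv (f : (Fin 24 → ℤ) → ℂ) [DecidablePred (· ∈ F.Y)] :
    ∑' x, f (F.yv x) = ∑' y, if y ∈ F.Y then f y else 0 := by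
  rw [← (F.yv_injective hdet).tsum_eq (f := fun y => if y ∈ F.Y then f y else 0) (fun y hy => by
    by_contra hne
    exact hy (if_neg fun h => hne (F.mem_Y.mp h)))]
  exact tsum_congr fun x => (if_pos (F.mem_Y.mpr ⟨x, rfl⟩)).symm

include hdet hs in
theorem theta_eq_sum {τ : ℂ} (hτ : 0 < τ.im) :
    theta B τ = (F.res.card : ℂ)⁻¹ * ∑ c ∈ F.res, ∏ i, jacobiTheta₂ ((c i : ℂ) / (F.d i : ℂ)) (τ / (F.d i : ℂ)) := by
  classical
  have hterm : ∀ (c y : Fin 24 → ℤ), ex (F.pair c y) * F.gauss τ y =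
      ∏ i, jacobiTheta₂_term (y i) ((c i : ℂ) / (F.d i : ℂ)) (τ / (F.d i : ℂ)) := by
    intro c y
    rw [ex, gauss, ← Complex.exp_sum, ← Complex.exp_add]
    simp only [jacobiTheta₂_term]
    rw [← Complex.exp_sum]
    congr 1
    simp only [pair]
    push_cast
    rw [Finset.mul_sum, ← Finset.sum_add_distrib]
    exact Finset.sum_congr rfl fun i _ => by ring
  have hsum : ∀ c : Fin 24 → ℤ, (Summable fun y => ex (F.pair c y) * F.gauss τ y) ∧
      ∑' y, ex (F.pair c y) * F.gauss τ y = ∏ i, jacobiTheta₂ ((c i : ℂ) / (F.d i : ℂ)) (τ / (F.d i : ℂ)) := by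
    intro c
    obtain ⟨h1, h2⟩ := pi_prod_series (fun i m => jacobiTheta₂_term m ((c i : ℂ) / (F.d i : ℂ)) (τ / (F.d i : ℂ)))
      fun i => ((summable_jacobiTheta₂_term_iff _ _).mpr (by
        rw [Complex.div_natCast_im]; exact div_pos hτ (Nat.cast_pos.mpr (F.pos i)))).norm
    simp only [hterm]
    exact ⟨Summable.of_norm h1, h2⟩
  have hcard : (F.res.card : ℂ) ≠ 0 := Nat.cast_ne_zero.mpr (Finset.card_ne_zero.mpr F.res_nonempty)
  rw [F.theta_eq_tsum hs hdet, F.tsum_yv hdet, ← Finset.sum_congr rfl fun c _ => (hsum c).2,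
    ← Summable.tsum_finsetSum fun c _ => (hsum c).1, ← tsum_mul_left]
  refine tsum_congr fun y => ?_
  rw [← Finset.sum_mul, F.sum_ex hs hdet]
  split_ifs
  · rw [inv_mul_cancel_left₀ hcard]
  · rw [zero_mul, mul_zero]

theorem jacobi_coset {τ : ℂ} (hτ : τ ≠ 0) (i : Fin 24) (c : ℤ) :
    jacobiTheta₂ ((c : ℂ) / (F.d i : ℂ)) (τ / (F.d i : ℂ)) = 1 / (-I * (τ / (F.d i : ℂ))) ^ (1 / 2 : ℂ) *
      ∑' n : ℤ, Complex.exp (π * I * (-1 / τ) * (((c - n * (F.d i : ℤ) : ℤ) : ℂ) ^ 2 / (F.d i : ℂ))) := by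
  rw [jacobiTheta₂_functional_equation, mul_assoc, jacobiTheta₂, ← tsum_mul_left (a := Complex.exp _)]
  congr 1
  refine tsum_congr fun n => ?_
  rw [jacobiTheta₂_term, ← Complex.exp_add]
  congr 1
  have := F.d_neC i
  push_cast
  field_simp
  ring

theorem root_scale {τ : ℂ} (hτ : τ ≠ 0) {d : ℝ} (hd : 0 < d) :
    1 / (-I * (τ / (d : ℂ))) ^ (1 / 2 : ℂ) = (Real.sqrt d : ℂ) / (-I * τ) ^ (1 / 2 : ℂ) := by
  have hne : -I * τ ≠ 0 := mul_ne_zero (neg_ne_zero.mpr Complex.I_ne_zero) hτ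
  have e : (d : ℂ) * (-I * (τ / (d : ℂ))) = -I * τ := by
    have : (d : ℂ) ≠ 0 := Complex.ofReal_ne_zero.mpr hd.ne'
    field_simp
  have hne' : -I * (τ / (d : ℂ)) ≠ 0 := fun h => hne (by rw [← e, h, mul_zero])
  have h1 : (-I * τ) ^ (1 / 2 : ℂ) = (Real.sqrt d : ℂ) * (-I * (τ / (d : ℂ))) ^ (1 / 2 : ℂ) := by
    rw [← e, Complex.cpow_def_of_ne_zero (e.symm ▸ hne), Complex.cpow_def_of_ne_zero hne',
      Complex.log_ofReal_mul hd hne', add_mul, Complex.exp_add]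
    congr 1
    rw [Real.sqrt_eq_rpow, Real.rpow_def_of_pos hd, Complex.ofReal_exp]
    push_cast
    ring_nf
  have hs : (Real.sqrt d : ℂ) ≠ 0 := Complex.ofReal_ne_zero.mpr (Real.sqrt_pos.mpr hd).ne'
  rw [h1]
  field_simp

include hdet hs in
theorem theta_inv {τ : ℂ} (hτ : 0 < τ.im) :
    theta B τ = (((F.res.card : ℝ)⁻¹ * ∏ i, Real.sqrt (F.d i : ℝ) : ℝ) : ℂ) / τ ^ 12 * theta B (-1 / τ) := by
  classical
  have hτ0 : τ ≠ 0 := fun h => by simp [h] at hτ
  have hσ : 0 < (-1 / τ).im := by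
    rw [Complex.div_im]
    simp only [Complex.neg_im, Complex.one_im, neg_zero, zero_mul, zero_div, zero_sub, Complex.neg_re, Complex.one_re]
    have := Complex.normSq_pos.mpr hτ0
    rw [neg_mul, one_mul, neg_div, neg_neg]
    positivity
  set σ := -1 / τ
  -- the translates of the residues fill the lattice
  set Φ : ↥F.res × (Fin 24 → ℤ) → (Fin 24 → ℤ) := fun p i => (p.1 : Fin 24 → ℤ) i - p.2 i * (F.d i : ℤ)
  have hΦY : ∀ p, Φ p ∈ F.Y := fun p => by
    have := sub_mem (F.mem_res.mp p.1.2).2 (F.scaled_mem p.2)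
    convert this using 1
    funext i
    simp only [Φ, Pi.sub_apply]; ring
  have hΦinj : Function.Injective Φ := by
    rintro ⟨c, n⟩ ⟨c', n'⟩ h
    have hc : c = c' := Subtype.ext (funext fun i => by
      have := congrArg (· % (F.d i : ℤ)) (congrFun h i)
      simp only [Φ, Int.sub_mul_emod_self_right] at this
      rwa [Int.emod_eq_of_lt ((F.mem_res.mp c.2).1 i).1 ((F.mem_res.mp c.2).1 i).2,
        Int.emod_eq_of_lt ((F.mem_res.mp c'.2).1 i).1 ((F.mem_res.mp c'.2).1 i).2] at this)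
    subst hc
    refine Prod.ext rfl (funext fun i => ?_)
    have := congrFun h i
    simp only [Φ, sub_right_inj] at this
    exact Int.eq_of_mul_eq_mul_right (by exact_mod_cast (F.pos i).ne') this
  have hΦsurj : ∀ y ∈ F.Y, ∃ p, Φ p = y := fun y hy =>
    ⟨(⟨F.red y, F.red_mem hy⟩, fun i => -(y i / (F.d i : ℤ))), funext fun i => by
      simp only [Φ, red]; rw [neg_mul, sub_neg_eq_add]; exact Int.emod_add_ediv_mul _ _⟩
  have hgroup : theta B σ = ∑ c ∈ F.res, ∑' n : Fin 24 → ℤ, F.gauss σ (fun i => c i - n i * (F.d i : ℤ)) := by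
    rw [F.theta_eq_tsum hs hdet, F.tsum_yv hdet, ← hΦinj.tsum_eq (fun y hy => hΦsurj y (by
      by_contra hne; exact hy (if_neg hne))), tsum_congr fun p => if_pos (hΦY p),
      Summable.tsum_prod ((F.gauss_summable hσ).comp_injective hΦinj).of_norm, tsum_fintype,
      Finset.sum_coe_sort F.res fun c => ∑' n : Fin 24 → ℤ, F.gauss σ (fun i => c i - n i * (F.d i : ℤ))]
  have hcoset : ∀ c ∈ F.res, ∑' n : Fin 24 → ℤ, F.gauss σ (fun i => c i - n i * (F.d i : ℤ)) =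
      ∏ i, ∑' n : ℤ, Complex.exp (π * I * σ * (((c i - n * (F.d i : ℤ) : ℤ) : ℂ) ^ 2 / (F.d i : ℂ))) := by
    intro c _
    refine (pi_prod_series (fun i n => Complex.exp (π * I * σ * (((c i - n * (F.d i : ℤ) : ℤ) : ℂ) ^ 2 / (F.d i : ℂ))))
      fun i => ?_).2
    have hb : Summable fun m : ℤ => ‖Complex.exp (π * I * σ * ((m : ℂ) ^ 2 / (F.d i : ℂ)))‖ := by
      refine ((summable_jacobiTheta₂_term_iff 0 (σ / (F.d i : ℂ))).mpr (by
        rw [Complex.div_natCast_im]; exact div_pos hσ (Nat.cast_pos.mpr (F.pos i)))).norm.congr fun m => ?_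
      rw [jacobiTheta₂_term]
      congr 2
      ring
    exact hb.comp_injective (i := fun n : ℤ => c i - n * (F.d i : ℤ)) fun a b h =>
      Int.eq_of_mul_eq_mul_right (by exact_mod_cast (F.pos i).ne') (sub_right_injective h)
  rw [F.theta_eq_sum hs hdet hτ, hgroup, Finset.sum_congr rfl hcoset]
  have hA : ∀ i, 1 / (-I * (τ / (F.d i : ℂ))) ^ (1 / 2 : ℂ) =
      (Real.sqrt (F.d i : ℝ) : ℂ) / (-I * τ) ^ (1 / 2 : ℂ) := fun i => by
    have := root_scale hτ0 (d := (F.d i : ℝ)) (Nat.cast_pos.mpr (F.pos i))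
    simpa using this
  have hroot : ((-I * τ) ^ (1 / 2 : ℂ)) ^ 24 = τ ^ 12 := by
    rw [← Complex.cpow_nat_mul, show ((24 : ℕ) : ℂ) * (1 / 2) = ((12 : ℕ) : ℂ) by norm_num, Complex.cpow_natCast,
      mul_pow, show (-I : ℂ) ^ 12 = 1 by rw [show 12 = 4 * 3 from rfl, pow_mul, neg_pow]; simp; norm_num, one_mul]
  have hprod : ∀ c : Fin 24 → ℤ, ∏ i, jacobiTheta₂ ((c i : ℂ) / (F.d i : ℂ)) (τ / (F.d i : ℂ)) =
      ((∏ i, (Real.sqrt (F.d i : ℝ) : ℂ)) / τ ^ 12) *
        ∏ i, ∑' n : ℤ, Complex.exp (π * I * σ * (((c i - n * (F.d i : ℤ) : ℤ) : ℂ) ^ 2 / (F.d i : ℂ))) := by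
    intro c
    rw [Finset.prod_congr rfl fun i _ => (F.jacobi_coset hτ0 i (c i)).trans (by rw [hA i]), Finset.prod_mul_distrib,
      Finset.prod_div_distrib, Finset.prod_const, Finset.card_univ, Fintype.card_fin, hroot]
  rw [Finset.sum_congr rfl fun c _ => hprod c, ← Finset.mul_sum]
  push_cast
  ring

include F hdet hs in
theorem theta_inversion {τ : ℂ} (hτ : 0 < τ.im) : theta B (-1 / τ) = τ ^ 12 * theta B τ := by
  set K : ℝ := (F.res.card : ℝ)⁻¹ * ∏ i, Real.sqrt (F.d i : ℝ)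
  have hI := F.theta_inv hs hdet (τ := I) (by simp)
  rw [show (-1 / I : ℂ) = I by simp [neg_div], show (I : ℂ) ^ 12 = 1 by rw [show 12 = 4 * 3 from rfl, pow_mul]; simp,
    div_one] at hI
  have hne : theta B I ≠ 0 := by
    rw [F.theta_eq_tsum hs hdet]
    have hval : ∀ y, F.gauss I y = ((∏ i, Real.exp (-π * ((y i : ℝ) ^ 2 / (F.d i : ℝ))) : ℝ) : ℂ) := fun y => by
      rw [gauss]
      push_cast
      refine Finset.prod_congr rfl fun i _ => ?_
      congr 1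
      linear_combination (π : ℂ) * ((y i : ℂ) ^ 2 / (F.d i : ℂ)) * Complex.I_sq
    simp only [hval]
    rw [← Complex.ofReal_tsum, Complex.ofReal_ne_zero]
    have hsum : Summable fun x => ∏ i, Real.exp (-π * ((F.yv x i : ℝ) ^ 2 / (F.d i : ℝ))) := by
      refine ((F.gauss_summable (τ := I) (by simp)).comp_injective (F.yv_injective hdet)).congr fun x => ?_
      show ‖F.gauss I (F.yv x)‖ = _
      rw [hval, Complex.norm_real, Real.norm_of_nonneg (Finset.prod_nonneg fun i _ => (Real.exp_pos _).le)]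
    exact (hsum.tsum_pos (fun x => Finset.prod_nonneg fun i _ => (Real.exp_pos _).le) 0
      (Finset.prod_pos fun i _ => Real.exp_pos _)).ne'
  have hK : (K : ℂ) = 1 := mul_right_cancel₀ hne (by rw [one_mul]; exact hI.symm)
  have h := F.theta_inv hs hdet hτ
  rw [show (((F.res.card : ℝ)⁻¹ * ∏ i, Real.sqrt (F.d i : ℝ) : ℝ) : ℂ) = 1 from hK] at h
  have hτ0 : τ ≠ 0 := fun h => by simp [h] at hτ
  rw [h]
  field_simp

end Frame

end Cfsg.Lib.Theta
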